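import Cfsg.Agent.CX.Dsc

/-! # Descent data for an element of order 3 without fixed vectors -/

set_option autoImplicit false
set_option maxHeartbeats 2000000

namespace Cfsg.Agent.CX

open Cfsg Cfsg.Spor Cfsg.Agent.GT Cfsg.Agent.XL Cfsg.Agent.M24 Cfsg.Agent.Leech Cfsg.Agent.CoS Cfsg.Agent.CW Subgroup

/-- data -/
def a3 : ℕ := nat_lit 0x77991f97a93359d9c9a6ddd9f796c67cd7c97d57c903a9f80429f8062bd87f7df1e6a86b22822a070a500221820223020220020701427db46b2285427db281000ab9000aba000abf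
/-- data -/
def ai3 : ℕ := nat_lit 0xf7991fd7a93379d9c9b6ddd9ff96c678d7c97f57c902a9f804a9f8066bd87f5df1e6b86b228a2a070e500223820222020220820701027db44b2285527db289000abd000ab8000abe
/-- data -/
def u3 : ℕ := nat_lit 0xf10cff00148100a4b90820a510233f012b3e020881042093202b7e00448100213e40024e00001000004000008100093e000200000401000020000801000008000004000002000001
/-- data -/
def uu3 : ℕ := nat_lit 0xfdb28e40000f20002810002408000a04002d020a900100020080060046c000202f00100f000801000401000201000101000081000041000020000011000008000004000002000001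
/-- data -/
def pw3 : List ℕ := [nat_lit
  0x77991f97a93359d9c9a6ddd9f796c67cd7c97d57c903a9f80429f8062bd87f7df1e6a86b22822a070a500221820223020220020701427db46b2285427db281000ab9000aba000abf,
  nat_lit
  0x800000400000200000100000080000040000020000010000008000004000002000001000000800000400000200000100000080000040000020000010000008000004000002000001]
/-- data -/
def kg3 : List ℕ := [nat_lit
  0xdd1c61400a0e2004411003b408039a0401ac020000010b1200844100444100200000109e000800000401000200000100000080000041000020000010000008000004000002000001,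
  nat_lit
  0xa93ce540000040bdbe049c07418d03508211020091089fdc409487405241208f6e00100f00020000049e000800000dc6000011000a4f000020000081000008000004000002000001,
  nat_lit
  0xa93ce500141e0c17f644886364052904002d421e414435be14100f0040c14515be40084100049e0002000004000001ec000041000081000020000a4f000008000004000002000001,
  nat_lit
  0x94967b00109e00a9fe0822251021bf01262d020a010421fe20261700460100213e400a0100001000004000008000093e000201000401000020000801000008000004000002000001,
  nat_lit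
  0xd83c600981ce18867e30aada28aeb42817f622ac6e50aef83804fe38cefe00213e342f3e0001000007b4000dc6000801000f680003da00002000093e000008000004000002000001,
  nat_lit
  0xd83c6040084e20030110043508005b04018102028101030100818100428100283e00141e000800000400000201000101000081000040000020000010000008000004000002000001]
/-- data -/
def us3 : List ℕ := [nat_lit
  0x94967b3421ba252ead41a2a504bd700400ec22a20721a687250f8505662d208086098315000f69000f1300093e0000800001010001ec000020000dc6000008000004000002000001,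
  nat_lit
  0xe59030098d06058cfe243cd2612674012d3e22ac6e248cae05a4f805683e208dee342966000dc60001ec00010000020100093e000f12000020000f68000008000004000002000001,
  nat_lit
  0xf10cff00148100a4b90820a510233f012b3e020881042093202b7e00448100213e40024e00001000004000008100093e000200000401000020000801000008000004000002000001]
/-- data -/
def l0_3 : List ℕ := [nat_lit
  0x90df0b0c51b2465b6073337184b061fa8c8406c3222481a2ecc1d90c5261f217c40c56f70c03fd0c003600b484600a4a0c022600b07c7dbefa00b9247db2877db44b000003000026,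
  nat_lit
  0xc9902122445dcc54354927348df4650ac631ba8c74c401b16d158a8f103dc277cc13581737b8846f83a15bb2147e3f837e389037b1107db2896f8a1e0006e07db2a17db2ad000a95]
/-- data -/
def w0_3 : List (List ℕ) := [[nat_lit 0x29ad05122fa39b29ace94546cb8820c75001, nat_lit 0, nat_lit
  0xbae757a447a394462206934b61c4013da100], [nat_lit 0x2bec4431d090167a2aad4cc26b8a23000000, nat_lit 0, nat_lit
  0x1d0ef84dc86054d34924b56eb28051f1de4f]]
/-- data -/
def t0_3 : T := (.node (.node (.node (.node (.node (.node (.node (.node .nil (nat_lit 1) (nat_lit 0) (nat_lit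
  1) .nil) (nat_lit 14) (nat_lit 1200) (nat_lit 0x7db28b) .nil) (nat_lit 15) (nat_lit 1920) (nat_lit 0x7db444)
  (.node .nil (nat_lit 38) (nat_lit 16) (nat_lit 1) .nil)) (nat_lit 39) (nat_lit 528) (nat_lit 1742) (.node
  (.node .nil (nat_lit 42) (nat_lit 97) (nat_lit 2709) .nil) (nat_lit 43) (nat_lit 1600) (nat_lit 0x7db288)
  (.node .nil (nat_lit 44) (nat_lit 1169) (nat_lit 0x7db449) .nil))) (nat_lit 45) (nat_lit 1312) (nat_lit
  0x7db830) (.node (.node (.node .nil (nat_lit 46) (nat_lit 1552) (nat_lit 0x7db832) .nil) (nat_lit 47)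
  (nat_lit 1905) (nat_lit 0x7db83d) (.node .nil (nat_lit 1728) (nat_lit 1072) (nat_lit 0x7db44a) .nil))
  (nat_lit 1729) (nat_lit 144) (nat_lit 0x7db285) (.node (.node .nil (nat_lit 1732) (nat_lit 209) (nat_lit 42)
  .nil) (nat_lit 1733) (nat_lit 1841) (nat_lit 1775) (.node .nil (nat_lit 1734) (nat_lit 945) (nat_lit 2715)
  .nil)))) (nat_lit 1735) (nat_lit 1888) (nat_lit 0x7db83d) (.node (.node (.node (.node (.node .nil (nat_lit
  1736) (nat_lit 1713) (nat_lit 44) .nil) (nat_lit 1737) (nat_lit 496) (nat_lit 2742) .nil) (nat_lit 1738)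
  (nat_lit 1744) (nat_lit 2740) (.node .nil (nat_lit 1739) (nat_lit 321) (nat_lit 3160) .nil)) (nat_lit 1742)
  (nat_lit 272) (nat_lit 1729) (.node (.node .nil (nat_lit 1743) (nat_lit 1728) (nat_lit 14) .nil) (nat_lit
  1764) (nat_lit 2128) (nat_lit 0x7db286) (.node .nil (nat_lit 1765) (nat_lit 577) (nat_lit 0x7db2a0) .nil)))
  (nat_lit 1768) (nat_lit 1648) (nat_lit 1728) (.node (.node (.node .nil (nat_lit 1769) (nat_lit 721) (nat_lit
  0x7db2a6) .nil) (nat_lit 1772) (nat_lit 1232) (nat_lit 2741) (.node .nil (nat_lit 1773) (nat_lit 625)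
  (nat_lit 1739) .nil)) (nat_lit 1774) (nat_lit 833) (nat_lit 2751) (.node (.node .nil (nat_lit 1775) (nat_lit
  1376) (nat_lit 2743) .nil) (nat_lit 2704) (nat_lit 481) (nat_lit 0x7db2a9) (.node .nil (nat_lit 2705)
  (nat_lit 2000) (nat_lit 2717) .nil))))) (nat_lit 2706) (nat_lit 336) (nat_lit 2719) (.node (.node (.node
  (.node (.node (.node .nil (nat_lit 2707) (nat_lit 1297) (nat_lit 0x7dbedd) .nil) (nat_lit 2708) (nat_lit
  417) (nat_lit 1732) .nil) (nat_lit 2709) (nat_lit 33) (nat_lit 1) (.node .nil (nat_lit 2714) (nat_lit 1265)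
  (nat_lit 3187) .nil)) (nat_lit 2715) (nat_lit 513) (nat_lit 2742) (.node (.node .nil (nat_lit 2716) (nat_lit
  449) (nat_lit 0x7db2af) .nil) (nat_lit 2717) (nat_lit 1568) (nat_lit 0x7dbedb) (.node .nil (nat_lit 2718)
  (nat_lit 976) (nat_lit 0x7dbed9) .nil))) (nat_lit 2719) (nat_lit 176) (nat_lit 0x7db816) (.node (.node
  (.node .nil (nat_lit 2738) (nat_lit 48) (nat_lit 38) .nil) (nat_lit 2739) (nat_lit 657) (nat_lit 2706)
  (.node .nil (nat_lit 2740) (nat_lit 1217) (nat_lit 0x7db28b) .nil)) (nat_lit 2741) (nat_lit 753) (nat_lit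
  0x7db44e) (.node (.node .nil (nat_lit 2742) (nat_lit 257) (nat_lit 0x7db83a) .nil) (nat_lit 2743) (nat_lit
  848) (nat_lit 2716) (.node .nil (nat_lit 2750) (nat_lit 2145) (nat_lit 3153) .nil)))) (nat_lit 2751)
  (nat_lit 432) (nat_lit 0x7db2af) (.node (.node (.node (.node (.node .nil (nat_lit 3152) (nat_lit 1361)
  (nat_lit 1774) .nil) (nat_lit 3153) (nat_lit 1936) (nat_lit 0x7dbed7) .nil) (nat_lit 3154) (nat_lit 1409)
  (nat_lit 3167) (.node .nil (nat_lit 3155) (nat_lit 1632) (nat_lit 0x7db81a) .nil)) (nat_lit 3158) (nat_lit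
  560) (nat_lit 0x7db2a0) (.node (.node .nil (nat_lit 3159) (nat_lit 897) (nat_lit 0x7dbef7) .nil) (nat_lit
  3160) (nat_lit 161) (nat_lit 0x7db285) (.node .nil (nat_lit 3161) (nat_lit 1489) (nat_lit 0x7db440) .nil)))
  (nat_lit 3164) (nat_lit 2081) (nat_lit 1768) (.node (.node (.node .nil (nat_lit 3165) (nat_lit 1809)
  (nat_lit 45) .nil) (nat_lit 3166) (nat_lit 1792) (nat_lit 2707) (.node .nil (nat_lit 3167) (nat_lit 865)
  (nat_lit 2716) .nil)) (nat_lit 3186) (nat_lit 1521) (nat_lit 0x7db810) (.node (.node .nil (nat_lit 3187)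
  (nat_lit 768) (nat_lit 0x7db2a3) .nil) (nat_lit 3192) (nat_lit 640) (nat_lit 2706) (.node .nil (nat_lit
  3193) (nat_lit 2112) (nat_lit 3165) .nil)))))) (nat_lit 3194) (nat_lit 1392) (nat_lit 3167) (.node (.node
  (.node (.node (.node (.node (.node .nil (nat_lit 3195) (nat_lit 912) (nat_lit 2704) .nil) (nat_lit 3198)
  (nat_lit 193) (nat_lit 0x7db816) .nil) (nat_lit 3199) (nat_lit 1024) (nat_lit 1765) (.node .nil (nat_lit
  0x7db280) (nat_lit 1584) (nat_lit 3199) .nil)) (nat_lit 0x7db282) (nat_lit 112) (nat_lit 2738) (.node (.node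
  .nil (nat_lit 0x7db285) (nat_lit 65) (nat_lit 38) .nil) (nat_lit 0x7db286) (nat_lit 1857) (nat_lit 3154)
  (.node .nil (nat_lit 0x7db288) (nat_lit 1041) (nat_lit 1765) .nil))) (nat_lit 0x7db28b) (nat_lit 736)
  (nat_lit 0x7db44e) (.node (.node (.node .nil (nat_lit 0x7db28c) (nat_lit 1617) (nat_lit 0x7db288) .nil)
  (nat_lit 0x7db28e) (nat_lit 1825) (nat_lit 0x7db839) (.node .nil (nat_lit 0x7db2a0) (nat_lit 289) (nat_lit
  1729) .nil)) (nat_lit 0x7db2a3) (nat_lit 400) (nat_lit 1732) (.node (.node .nil (nat_lit 0x7db2a4) (nat_lit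
  1120) (nat_lit 2739) .nil) (nat_lit 0x7db2a6) (nat_lit 368) (nat_lit 3198) (.node .nil (nat_lit 0x7db2a9)
  (nat_lit 240) (nat_lit 0x7db83a) .nil)))) (nat_lit 0x7db2ab) (nat_lit 880) (nat_lit 0x7dbef7) (.node (.node
  (.node (.node (.node .nil (nat_lit 0x7db2ac) (nat_lit 2016) (nat_lit 0x7db280) .nil) (nat_lit 0x7db2af)
  (nat_lit 224) (nat_lit 0x7db282) .nil) (nat_lit 0x7db440) (nat_lit 929) (nat_lit 1737) (.node .nil (nat_lit
  0x7db442) (nat_lit 1105) (nat_lit 3192) .nil)) (nat_lit 0x7db444) (nat_lit 1472) (nat_lit 0x7db440) (.node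
  (.node .nil (nat_lit 0x7db447) (nat_lit 1153) (nat_lit 0x7dbed0) .nil) (nat_lit 0x7db449) (nat_lit 689)
  (nat_lit 0x7db467) (.node .nil (nat_lit 0x7db44a) (nat_lit 608) (nat_lit 1739) .nil))) (nat_lit 0x7db44c)
  (nat_lit 1248) (nat_lit 3187) (.node (.node (.node .nil (nat_lit 0x7db44e) (nat_lit 385) (nat_lit 3198)
  .nil) (nat_lit 0x7db460) (nat_lit 2048) (nat_lit 0x7db28c) (.node .nil (nat_lit 0x7db463) (nat_lit 1969)
  (nat_lit 0x7dbef2) .nil)) (nat_lit 0x7db465) (nat_lit 1985) (nat_lit 46) (.node (.node .nil (nat_lit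
  0x7db467) (nat_lit 353) (nat_lit 2719) .nil) (nat_lit 0x7db468) (nat_lit 816) (nat_lit 2751) (.node .nil
  (nat_lit 0x7db46a) (nat_lit 1952) (nat_lit 3186) .nil))))) (nat_lit 0x7db46c) (nat_lit 2033) (nat_lit
  0x7db280) (.node (.node (.node (.node (.node (.node .nil (nat_lit 0x7db46f) (nat_lit 1873) (nat_lit
  0x7dbef4) .nil) (nat_lit 0x7db810) (nat_lit 961) (nat_lit 39) .nil) (nat_lit 0x7db813) (nat_lit 2065)
  (nat_lit 3155) (.node .nil (nat_lit 0x7db814) (nat_lit 304) (nat_lit 3160) .nil)) (nat_lit 0x7db816)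
  (nat_lit 80) (nat_lit 2709) (.node (.node .nil (nat_lit 0x7db818) (nat_lit 1184) (nat_lit 0x7db81e) .nil)
  (nat_lit 0x7db81a) (nat_lit 1056) (nat_lit 0x7dbed3) (.node .nil (nat_lit 0x7db81d) (nat_lit 1680) (nat_lit
  0x7db2a4) .nil))) (nat_lit 0x7db81e) (nat_lit 704) (nat_lit 0x7db2a6) (.node (.node (.node .nil (nat_lit
  0x7db830) (nat_lit 800) (nat_lit 2708) .nil) (nat_lit 0x7db832) (nat_lit 993) (nat_lit 0x7dbed9) (.node .nil
  (nat_lit 0x7db835) (nat_lit 1665) (nat_lit 1728) .nil)) (nat_lit 0x7db836) (nat_lit 1696) (nat_lit 44)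
  (.node (.node .nil (nat_lit 0x7db839) (nat_lit 1344) (nat_lit 0x7db468) .nil) (nat_lit 0x7db83a) (nat_lit
  129) (nat_lit 2738) (.node .nil (nat_lit 0x7db83d) (nat_lit 1441) (nat_lit 0x7db2ab) .nil)))) (nat_lit
  0x7db83f) (nat_lit 1136) (nat_lit 0x7dbed0) (.node (.node (.node (.node (.node .nil (nat_lit 0x7dbed0)
  (nat_lit 672) (nat_lit 0x7db467) .nil) (nat_lit 0x7dbed3) (nat_lit 593) (nat_lit 0x7db814) .nil) (nat_lit
  0x7dbed5) (nat_lit 1280) (nat_lit 0x7dbedd) (.node .nil (nat_lit 0x7dbed7) (nat_lit 1504) (nat_lit 0x7db810)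
  .nil)) (nat_lit 0x7dbed9) (nat_lit 545) (nat_lit 1742) (.node (.node .nil (nat_lit 0x7dbedb) (nat_lit 1008)
  (nat_lit 3158) .nil) (nat_lit 0x7dbedd) (nat_lit 785) (nat_lit 0x7db2a3) (.node .nil (nat_lit 0x7dbede)
  (nat_lit 1760) (nat_lit 1772) .nil))) (nat_lit 0x7dbef0) (nat_lit 2096) (nat_lit 0x7dbede) (.node (.node
  (.node .nil (nat_lit 0x7dbef2) (nat_lit 1537) (nat_lit 2718) .nil) (nat_lit 0x7dbef4) (nat_lit 1424)
  (nat_lit 0x7db2ab) (.node .nil (nat_lit 0x7dbef7) (nat_lit 464) (nat_lit 0x7db2a9) .nil)) (nat_lit 0x7dbef8)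
  (nat_lit 1088) (nat_lit 1773) (.node (.node .nil (nat_lit 0x7dbefb) (nat_lit 1329) (nat_lit 0x7db830) .nil)
  (nat_lit 0x7dbefd) (nat_lit 1456) (nat_lit 3159) (.node .nil (nat_lit 0x7dbeff) (nat_lit 1776) (nat_lit
  2714) .nil)))))))
theorem v0_3 : Valid mat l0_3 := valid_of_words (ws := w0_3) (by decide +kernel)
theorem c0_3 : band (lvl a3 pw3 [] [] l0_3 1 t0_3) (Nat.beq t0_3.size 135) = true := by decide +kernel
/-- data -/
def l1_3 : List ℕ := [nat_lit
  0xef6b7e53f132283149491a2c681a161f684737ba5f77ea4060194515f066101e743ffe4f000d74000c64000faf0008ea00063b00031c000c75000e75000c77000c7d000c54000001,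
  nat_lit
  0xea6a485dc5903ec5b2158eb16ad7b278d00f69eaa71314bd0d30460661ee6eee0c69fe20000e27000a38000eb90005aa000b54000386000ab0000d0d0006cd000abc000ab8000001]
/-- data -/
def w1_3 : List (List ℕ) := [[nat_lit 0x149b033dcb3c68a4126cb540908cb74f620f], [nat_lit
  0x2d6cf5a0299b8c461d5093474b8811f85f40]]
/-- data -/
def t1_3 : T := (.node (.node (.node (.node (.node (.node .nil (nat_lit 14) (nat_lit 0) (nat_lit 14) .nil)
  (nat_lit 15) (nat_lit 209) (nat_lit 2719) .nil) (nat_lit 38) (nat_lit 321) (nat_lit 1738) (.node .nil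
  (nat_lit 39) (nat_lit 48) (nat_lit 3166) .nil)) (nat_lit 1736) (nat_lit 337) (nat_lit 15) (.node (.node .nil
  (nat_lit 1737) (nat_lit 33) (nat_lit 14) .nil) (nat_lit 1738) (nat_lit 192) (nat_lit 2719) (.node .nil
  (nat_lit 1739) (nat_lit 401) (nat_lit 2740) .nil))) (nat_lit 1742) (nat_lit 496) (nat_lit 1739) (.node
  (.node (.node .nil (nat_lit 1743) (nat_lit 305) (nat_lit 2738) .nil) (nat_lit 1764) (nat_lit 145) (nat_lit
  3165) (.node .nil (nat_lit 1765) (nat_lit 465) (nat_lit 3164) .nil)) (nat_lit 2714) (nat_lit 80) (nat_lit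
  1737) (.node (.node .nil (nat_lit 2715) (nat_lit 433) (nat_lit 1743) .nil) (nat_lit 2716) (nat_lit 224)
  (nat_lit 2741) (.node .nil (nat_lit 2717) (nat_lit 385) (nat_lit 3187) .nil)))) (nat_lit 2718) (nat_lit 449)
  (nat_lit 1736) (.node (.node (.node (.node .nil (nat_lit 2719) (nat_lit 97) (nat_lit 1737) .nil) (nat_lit
  2738) (nat_lit 177) (nat_lit 2714) (.node .nil (nat_lit 2739) (nat_lit 416) (nat_lit 1743) .nil)) (nat_lit
  2740) (nat_lit 288) (nat_lit 2738) (.node (.node .nil (nat_lit 2741) (nat_lit 113) (nat_lit 39) .nil)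
  (nat_lit 2742) (nat_lit 160) (nat_lit 2714) (.node .nil (nat_lit 2743) (nat_lit 481) (nat_lit 2717) .nil)))
  (nat_lit 3160) (nat_lit 240) (nat_lit 3186) (.node (.node (.node .nil (nat_lit 3161) (nat_lit 353) (nat_lit
  3160) .nil) (nat_lit 3164) (nat_lit 369) (nat_lit 3167) (.node .nil (nat_lit 3165) (nat_lit 65) (nat_lit
  3166) .nil)) (nat_lit 3166) (nat_lit 16) (nat_lit 14) (.node (.node .nil (nat_lit 3167) (nat_lit 257)
  (nat_lit 1764) .nil) (nat_lit 3186) (nat_lit 128) (nat_lit 3165) (.node .nil (nat_lit 3187) (nat_lit 273)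
  (nat_lit 2742) .nil)))))
theorem v1_3 : Valid mat l1_3 := valid_of_words (ws := w1_3) (by decide +kernel)
theorem c1_3 : band (lvl a3 pw3 [1] [2751, 1] l1_3 14 t1_3) (Nat.beq t1_3.size 32) = true := by decide +kernel
/-- data -/
def l2_3 : List ℕ := [nat_lit
  0x8d3e650981c11881601810281c10241010210a9f5f18a074309d490857db508870001000000dc40000830003d80007b700049c00010200002300001300000b000002000007000001,
  nat_lit
  0xd484fc3421ba4fc8343fd67b61250f5ff1042ddf7b50a7f838014d5fd8372ffefb400a0e0007b400080000093e000101000200000f69000c74000a4e000008000004000002000001]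
/-- data -/
def w2_3 : List (List ℕ) := [[nat_lit 0xbc1669262dabaca79e74620a418041f242bc], [nat_lit
  0x7498a8122f994e6a2da84d6f61882024c5a0]]
/-- data -/
def t2_3 : T := (.node (.node (.node (.node .nil (nat_lit 1728) (nat_lit 0) (nat_lit 1728) .nil) (nat_lit
  1733) (nat_lit 16) (nat_lit 1728) .nil) (nat_lit 1734) (nat_lit 48) (nat_lit 1733) (.node .nil (nat_lit
  2705) (nat_lit 113) (nat_lit 3154) .nil)) (nat_lit 2706) (nat_lit 129) (nat_lit 3153) (.node (.node (.node
  .nil (nat_lit 2708) (nat_lit 81) (nat_lit 3159) .nil) (nat_lit 3153) (nat_lit 97) (nat_lit 1734) .nil)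
  (nat_lit 3154) (nat_lit 65) (nat_lit 1733) (.node .nil (nat_lit 3159) (nat_lit 33) (nat_lit 1728) .nil)))
theorem v2_3 : Valid mat l2_3 := valid_of_words (ws := w2_3) (by decide +kernel)
theorem c2_3 : band (lvl a3 pw3 [14, 1] [8237698, 14, 2751, 1] l2_3 1728 t2_3) (Nat.beq t2_3.size 9) = true :=
  by decide +kernel
/-- data -/
def l3_3 : List ℕ := [nat_lit
  0xbdeef27dac226312ae1ffcab22328255a410024440704e0a1be8c9405ede5d7e543db0720002e3000cad0006f300098b000ee300027d0006e00006a3000c5a000a960006c2000001]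
/-- data -/
def w3_3 : List (List ℕ) := [[nat_lit 0x11e086cc74901e9558955b0268dcae7dbfd0]]
/-- data -/
def t3_3 : T := (.node (.node .nil (nat_lit 38) (nat_lit 0) (nat_lit 38) .nil) (nat_lit 2740) (nat_lit 16)
  (nat_lit 38) .nil)
theorem v3_3 : Valid mat l3_3 := valid_of_words (ws := w3_3) (by decide +kernel)
theorem c3_3 : band (lvl a3 pw3 [1728, 14, 1] [2706, 1728, 8237698, 14, 2751, 1] l3_3 38 t3_3) (Nat.beq
  t3_3.size 2) = true := by decide +kernel
theorem cf3 : band (band (fsChk pw3 [38, 1728, 14, 1] [8238184, 38, 2706, 1728, 8237698, 14, 2751, 1]) (lall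
  [38, 1728, 14, 1] t4.has)) (nall 8 fun i => spanHas [8238184, 38, 2706, 1728, 8237698, 14, 2751, 1] (col mF
  i)) = true := by decide +kernel
theorem pc3 : pwChk a3 pw3 = true := by decide +kernel
theorem cc3 : cChk tQ a3 ai3 u3 uu3 kg3 us3 = true := by decide +kernel
theorem ca0_3 : (tQ0.all fun B _ _ => cF uu3 kg3 us3 B) = true := by decide +kernel
theorem ck0_3 : tQ0.count (fun B => cmm B a3) = 32 := by decide +kernel
theorem ca1_3 : (tQ1.all fun B _ _ => cF uu3 kg3 us3 B) = true := by decide +kernel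
theorem ck1_3 : tQ1.count (fun B => cmm B a3) = 32 := by decide +kernel
theorem ca2_3 : (tQ2.all fun B _ _ => cF uu3 kg3 us3 B) = true := by decide +kernel
theorem ck2_3 : tQ2.count (fun B => cmm B a3) = 32 := by decide +kernel
theorem ca3_3 : (tQ3.all fun B _ _ => cF uu3 kg3 us3 B) = true := by decide +kernel
theorem ck3_3 : tQ3.count (fun B => cmm B a3) = 31 := by decide +kernel
theorem ca4_3 : (tQ4.all fun B _ _ => cF uu3 kg3 us3 B) = true := by decide +kernel
theorem ck4_3 : tQ4.count (fun B => cmm B a3) = 1 := by decide +kernel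
theorem ck3 : tQ.count (fun B => cmm B a3) = 128 := tQ_count ck0_3 ck1_3 ck2_3 ck3_3 ck4_3
theorem mt3 : mt (xx 1) = a3 := by rw [xx, mt_al vB]; decide +kernel
theorem dsc3' : Dsc (Q1 ⊓ C1[xx 1]) z0 g0 (xx 1) 3 25920 ∧ orderOf (xx 1) = 3 := by
  obtain ⟨b, hb⟩ := pj_surj (xx 1)
  obtain ⟨a, h1, h3, h4⟩ := exists_order (A := a3) (p := 3) (Ai := ai3) (by norm_num) (by decide)
    ⟨b, by rw [← mt_pj, hb, mt3]⟩ (by decide +kernel)
  have h2 : Odd (orderOf a) := h4 ▸ by decide
  have h5 : a ∈ C1[zz] := mem_CZ_of_mat (by rw [h1]; decide +kernel)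
  have h6 := card_K tab h2 h1 ck3
  refine dsc_of (by decide) h4 h5 h6 ?_ (cent_sound tab h2 h5 h1 h3 cc3
    (tQ_all ca0_3 ca1_3 ca2_3 ca3_3 ca4_3)) (mt_inj (by rw [mt_pj, h1, mt3]))
    (cmm_iff.1 (by rw [mt3, g0, mt_al vB]; decide +kernel)) (cmm_iff.1 (by rw [mt3, s0, mt_al vB]; decide +kernel))
  rw [← Fx_nil (C1[a] ⊓ C1[zz]), level h2 h1 pc3 v0_3 c0_3, level h2 h1 pc3 v1_3 c1_3, level h2 h1 pc3 v2_3 c2_3, level h2 h1 pc3 v3_3 c3_3,
    final h1 pc3 cf3, h6]
  norm_num

theorem dsc3 : Dsc (Q1 ⊓ C1[xx 1]) z0 g0 (xx 1) 3 25920 := dsc3'.1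

theorem ord3 : orderOf (xx 1) = 3 := dsc3'.2

end Cfsg.Agent.CX
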