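import Cfsg.Agent.CX.Dsc

/-! # Descent data for an element of order 5 without fixed vectors -/

set_option autoImplicit false
set_option maxHeartbeats 2000000

namespace Cfsg.Agent.CX

open Cfsg Cfsg.Spor Cfsg.Agent.GT Cfsg.Agent.XL Cfsg.Agent.M24 Cfsg.Agent.Leech Cfsg.Agent.CoS Cfsg.Agent.CW Subgroup

/-- a five-cycle -/
noncomputable def u0 : Co1 := xx 1 * xx 2 * xx 3
/-- data -/
def a5 : ℕ := nat_lit 0xd4fe5b0c04df96e44e1279eaddfb13022ed597fb5994f44928658d7b9b3393fa5d00bb52684b5f0160a80441e8044105016f3a0444e87dbef910db7f0000077db2ad7db4610006ec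
/-- data -/
def ai5 : ℕ := nat_lit 0xf97f5efad2a4f35364fd4a34755f63016a58fe5aacfb327c5ec624022d52ff719bdf5aa44febcb7efc767ef3257efe367bd4647bd18900000737727e7dbed67db46e7db834000c52
/-- data -/
def u5 : ℕ := nat_lit 0xd83c6040084e20030110043508005b04018102028101030100818100428100283e00141e000800000400000201000101000081000040000020000010000008000004000002000001
/-- data -/
def uu5 : ℕ := nat_lit 0x800000400000200000100000080000040000020000010000008000004000002000001000000800000400000200000100000080000040000020000010000008000004000002000001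
/-- data -/
def pw5 : List ℕ := [nat_lit
  0xa1d40d7d939fd3c37ffb4046e49b60066b7a106afe6ff24baca74b7fd97f6cbdb065b53067fc277fdc3d7fd1027afe917fd4037fd54300000867ffec7dbef97dbedc000c74000c7e,
  nat_lit
  0xc5508cb45e4967455047398443f10012ff77bcb0b01347eda84e2062f1e001676ba44c64054b30044e30561cf0040a2056fdd0040627dbed64056fd0000207db81b0000230006c1,
  nat_lit
  0xd4fe5b0c04df96e44e1279eaddfb13022ed597fb5994f44928658d7b9b3393fa5d00bb52684b5f0160a80441e8044105016f3a0444e87dbef910db7f0000077db2ad7db4610006ec,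
  nat_lit
  0x800000400000200000100000080000040000020000010000008000004000002000001000000800000400000200000100000080000040000020000010000008000004000002000001]
/-- data -/
def kg5 : List ℕ := [nat_lit
  0x94967b00109e00a9fe0822251021bf01262d020a010421fe20261700460100213e400a0100001000004000008000093e000201000401000020000801000008000004000002000001,
  nat_lit
  0xd48e6b342f3134928f1992cf391fab28109e1f0e591592df2c955838c6234510e20981ce0001ec000dc60007b500049e0003da000f69000020000f13000008000004000002000001,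
  nat_lit
  0xa0aeef00148e111cad5017fa503ff0508fea42144e3013fe54060740500f18042440024e00040000080100049e0007b4000a4e000011000020000040000008000004000002000001,
  nat_lit
  0x852abf4002412007401007800803c004002d0202810108130085c00046c000283e001481000800000401000201000101000081000041000020000010000008000004000002000001]
/-- data -/
def us5 : List ℕ := [nat_lit
  0xd1a4f90983150937f21521891500ad04002d1f0a371920654c282b05662d1800653421ba0003db00093e000f130000410001ec0001010000200007b4000008000004000002000001,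
  nat_lit
  0xf898313427ec5422ed0d03ff0d23cb0120011f06fe1c03ff1136970560011803fe098fdc0007b40001010001ec000401000f1200093f0000200003da000008000004000002000001,
  nat_lit
  0xb43e534002415105f1211bbe01945b012d3e421e414114d34906490042414515be00148e000a4f000080000041000f1200040000020100002000049e000008000004000002000001,
  nat_lit
  0xc53ef100100f0c13c04485c06405e20400c142100f44381d1413e20046c0451e1c40000f00049e0002010004010001ed000041000081000020000a4e000008000004000002000001,
  nat_lit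
  0xd83c6040084e20030110043508005b04018102028101030100818100428100283e00141e000800000400000201000101000081000040000020000010000008000004000002000001]
/-- data -/
def l0_5 : List ℕ := [nat_lit
  0x62b9e08eacba8c6355837f051fa3c34078eb226652a2221d2d1d6d8f7cea82ef548738eb7e86826f37e657b6303bb3fe7e8d0f3bb2020006e757b1ea7db2a17db81b7db819000ab3,
  nat_lit
  0xb5bd3c9d029f60cbdbd8362c3f5aa7ee82dce382141ef19fee8aa99b7c3684518fd83a805bb4e55bb51937b6f137b42b6f8b4a7e36710006e27e31630000037db46d000c74000a94]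
/-- data -/
def w0_5 : List (List ℕ) := [[nat_lit 0x21936bdd24dc943d5465c0562c423000000, nat_lit 0, nat_lit
  0x2cacaa980f445849ae8d3c069106eedb3a5f], [nat_lit 0x2bec4431d090167a2aad4cc26b8a23c75001, nat_lit 0, nat_lit
  0x122075bc2da5d9552666912362806eb02d97]]
/-- data -/
def t0_5 : T := (.node (.node (.node (.node (.node (.node (.node .nil (nat_lit 1) (nat_lit 0) (nat_lit 1)
  .nil) (nat_lit 14) (nat_lit 369) (nat_lit 3155) .nil) (nat_lit 38) (nat_lit 352) (nat_lit 3155) (.node .nil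
  (nat_lit 42) (nat_lit 1040) (nat_lit 0x7db835) .nil)) (nat_lit 43) (nat_lit 449) (nat_lit 1774) (.node
  (.node (.node .nil (nat_lit 44) (nat_lit 193) (nat_lit 0x7db44c) .nil) (nat_lit 45) (nat_lit 832) (nat_lit
  3160) .nil) (nat_lit 1728) (nat_lit 161) (nat_lit 0x7db83f) (.node .nil (nat_lit 1729) (nat_lit 897)
  (nat_lit 0x7db814) .nil))) (nat_lit 1732) (nat_lit 768) (nat_lit 0x7db818) (.node (.node (.node (.node .nil
  (nat_lit 1733) (nat_lit 1008) (nat_lit 0x7db2af) .nil) (nat_lit 1736) (nat_lit 913) (nat_lit 1765) .nil)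
  (nat_lit 1739) (nat_lit 801) (nat_lit 1773) (.node .nil (nat_lit 1743) (nat_lit 960) (nat_lit 0x7db813)
  .nil)) (nat_lit 1765) (nat_lit 624) (nat_lit 38) (.node (.node .nil (nat_lit 1772) (nat_lit 704) (nat_lit
  43) .nil) (nat_lit 1773) (nat_lit 528) (nat_lit 2716) (.node .nil (nat_lit 1774) (nat_lit 225) (nat_lit
  3152) .nil)))) (nat_lit 1775) (nat_lit 736) (nat_lit 2714) (.node (.node (.node (.node (.node .nil (nat_lit
  2706) (nat_lit 144) (nat_lit 0x7db83f) .nil) (nat_lit 2707) (nat_lit 656) (nat_lit 0x7db288) .nil) (nat_lit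
  2708) (nat_lit 33) (nat_lit 1) (.node .nil (nat_lit 2709) (nat_lit 720) (nat_lit 3154) .nil)) (nat_lit 2714)
  (nat_lit 480) (nat_lit 0x7db285) (.node (.node (.node .nil (nat_lit 2716) (nat_lit 289) (nat_lit 0x7dbedb)
  .nil) (nat_lit 2719) (nat_lit 432) (nat_lit 1774) .nil) (nat_lit 2739) (nat_lit 16) (nat_lit 1) (.node .nil
  (nat_lit 2741) (nat_lit 272) (nat_lit 0x7dbedb) .nil))) (nat_lit 2743) (nat_lit 240) (nat_lit 0x7dbedd)
  (.node (.node (.node (.node .nil (nat_lit 2750) (nat_lit 1025) (nat_lit 1732) .nil) (nat_lit 2751) (nat_lit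
  993) (nat_lit 1775) .nil) (nat_lit 3152) (nat_lit 97) (nat_lit 2708) (.node .nil (nat_lit 3153) (nat_lit
  816) (nat_lit 0x7db44a) .nil)) (nat_lit 3154) (nat_lit 465) (nat_lit 2743) (.node (.node .nil (nat_lit 3155)
  (nat_lit 176) (nat_lit 0x7db44c) .nil) (nat_lit 3160) (nat_lit 561) (nat_lit 0x7db44e) (.node .nil (nat_lit
  3165) (nat_lit 384) (nat_lit 44) .nil))))) (nat_lit 3167) (nat_lit 977) (nat_lit 1772) (.node (.node (.node
  (.node (.node (.node .nil (nat_lit 3187) (nat_lit 1184) (nat_lit 1733) .nil) (nat_lit 3194) (nat_lit 1089)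
  (nat_lit 3153) .nil) (nat_lit 3195) (nat_lit 1120) (nat_lit 3199) (.node .nil (nat_lit 3198) (nat_lit 849)
  (nat_lit 0x7dbefb) .nil)) (nat_lit 3199) (nat_lit 928) (nat_lit 0x7db2a3) (.node (.node (.node .nil (nat_lit
  0x7db282) (nat_lit 1137) (nat_lit 3199) .nil) (nat_lit 0x7db285) (nat_lit 257) (nat_lit 0x7dbedd) .nil)
  (nat_lit 0x7db286) (nat_lit 881) (nat_lit 0x7dbed5) (.node .nil (nat_lit 0x7db288) (nat_lit 400) (nat_lit
  0x7db28c) .nil))) (nat_lit 0x7db28c) (nat_lit 208) (nat_lit 3152) (.node (.node (.node (.node .nil (nat_lit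
  0x7db2a0) (nat_lit 1168) (nat_lit 2751) .nil) (nat_lit 0x7db2a3) (nat_lit 640) (nat_lit 14) .nil) (nat_lit
  0x7db2af) (nat_lit 752) (nat_lit 0x7db468) (.node .nil (nat_lit 0x7db447) (nat_lit 688) (nat_lit 2719)
  .nil)) (nat_lit 0x7db449) (nat_lit 321) (nat_lit 2706) (.node (.node .nil (nat_lit 0x7db44a) (nat_lit 544)
  (nat_lit 0x7db44e) .nil) (nat_lit 0x7db44c) (nat_lit 80) (nat_lit 2708) (.node .nil (nat_lit 0x7db44e)
  (nat_lit 304) (nat_lit 2706) .nil)))) (nat_lit 0x7db460) (nat_lit 1153) (nat_lit 3167) (.node (.node (.node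
  (.node (.node .nil (nat_lit 0x7db467) (nat_lit 1104) (nat_lit 0x7db816) .nil) (nat_lit 0x7db468) (nat_lit
  497) (nat_lit 0x7db285) .nil) (nat_lit 0x7db813) (nat_lit 673) (nat_lit 0x7dbeff) (.node .nil (nat_lit
  0x7db814) (nat_lit 608) (nat_lit 0x7dbed3) .nil)) (nat_lit 0x7db816) (nat_lit 864) (nat_lit 0x7dbed5) (.node
  (.node (.node .nil (nat_lit 0x7db818) (nat_lit 512) (nat_lit 2741) .nil) (nat_lit 0x7db81a) (nat_lit 48)
  (nat_lit 2739) .nil) (nat_lit 0x7db830) (nat_lit 1073) (nat_lit 1739) (.node .nil (nat_lit 0x7db835)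
  (nat_lit 784) (nat_lit 1773) .nil))) (nat_lit 0x7db83f) (nat_lit 65) (nat_lit 2739) (.node (.node (.node
  (.node .nil (nat_lit 0x7dbed0) (nat_lit 1056) (nat_lit 1739) .nil) (nat_lit 0x7dbed3) (nat_lit 337) (nat_lit
  1728) .nil) (nat_lit 0x7dbed5) (nat_lit 593) (nat_lit 0x7db449) (.node .nil (nat_lit 0x7dbedb) (nat_lit 129)
  (nat_lit 0x7db81a) .nil)) (nat_lit 0x7dbedd) (nat_lit 112) (nat_lit 0x7db81a) (.node (.node .nil (nat_lit
  0x7dbefb) (nat_lit 576) (nat_lit 0x7db449) .nil) (nat_lit 0x7dbefd) (nat_lit 944) (nat_lit 2707) (.node .nil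
  (nat_lit 0x7dbeff) (nat_lit 417) (nat_lit 0x7db28c) .nil))))))
theorem v0_5 : Valid mat l0_5 := valid_of_words (ws := w0_5) (by decide +kernel)
theorem c0_5 : band (lvl a5 pw5 [] [] l0_5 1 t0_5) (Nat.beq t0_5.size 75) = true := by decide +kernel
/-- data -/
def l1_5 : List ℕ := [nat_lit
  0xb9ef7a7152f9133e507b4ed12678b12d307262b1f96d06817688f038cc7138a2bd4cf0b50001ef000f6a0003d9000a4c0007b7000dc40006e0000f10000c77000abb000003000001,
  nat_lit
  0xae761b32056434934618b4ef3a10bf2810bb18002f129c8b2b9f094574ae421e930a8fdb000045000dc20007b100049a0003de000f6d00000c000404000025000005000abc000001]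
/-- data -/
def w1_5 : List (List ℕ) := [[nat_lit 0x1b4c93904b5158895676a3dd0bc4019e2a71], [nat_lit
  0x7264d42c2485ec733e8c9d46a28222714b63]]
/-- data -/
def t1_5 : T := (.node (.node (.node .nil (nat_lit 14) (nat_lit 0) (nat_lit 14) .nil) (nat_lit 1743) (nat_lit
  16) (nat_lit 14) .nil) (nat_lit 2716) (nat_lit 33) (nat_lit 14) (.node .nil (nat_lit 3165) (nat_lit 49)
  (nat_lit 1743) .nil))
theorem v1_5 : Valid mat l1_5 := valid_of_words (ws := w1_5) (by decide +kernel)
theorem c1_5 : band (lvl a5 pw5 [1] [3198, 1729, 1772, 1] l1_5 14 t1_5) (Nat.beq t1_5.size 4) = true := by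
  decide +kernel
theorem cf5 : band (band (fsChk pw5 [14, 1] [3153, 8239128, 1739, 14, 3198, 1729, 1772, 1]) (lall [14, 1]
  t4.has)) (nall 8 fun i => spanHas [3153, 8239128, 1739, 14, 3198, 1729, 1772, 1] (col mF i)) = true := by
  decide +kernel
theorem pc5 : pwChk a5 pw5 = true := by decide +kernel
theorem cc5 : cChk tQ a5 ai5 u5 uu5 kg5 us5 = true := by decide +kernel
theorem ca0_5 : (tQ0.all fun B _ _ => cF uu5 kg5 us5 B) = true := by decide +kernel
theorem ck0_5 : tQ0.count (fun B => cmm B a5) = 8 := by decide +kernel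
theorem ca1_5 : (tQ1.all fun B _ _ => cF uu5 kg5 us5 B) = true := by decide +kernel
theorem ck1_5 : tQ1.count (fun B => cmm B a5) = 8 := by decide +kernel
theorem ca2_5 : (tQ2.all fun B _ _ => cF uu5 kg5 us5 B) = true := by decide +kernel
theorem ck2_5 : tQ2.count (fun B => cmm B a5) = 8 := by decide +kernel
theorem ca3_5 : (tQ3.all fun B _ _ => cF uu5 kg5 us5 B) = true := by decide +kernel
theorem ck3_5 : tQ3.count (fun B => cmm B a5) = 8 := by decide +kernel
theorem ca4_5 : (tQ4.all fun B _ _ => cF uu5 kg5 us5 B) = true := by decide +kernel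
theorem ck4_5 : tQ4.count (fun B => cmm B a5) = 0 := by decide +kernel
theorem ck5 : tQ.count (fun B => cmm B a5) = 32 := tQ_count ck0_5 ck1_5 ck2_5 ck3_5 ck4_5
theorem mt5 : mt u0 = a5 := by simp only [u0, xx, mt_mul, mt_al vB]; decide +kernel
theorem dsc5' : Dsc (Q1 ⊓ C1[u0]) z0 g0 u0 2 60 ∧ orderOf u0 = 5 := by
  obtain ⟨b, hb⟩ := pj_surj u0
  obtain ⟨a, h1, h3, h4⟩ := exists_order (A := a5) (p := 5) (Ai := ai5) (by norm_num) (by decide)
    ⟨b, by rw [← mt_pj, hb, mt5]⟩ (by decide +kernel)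
  have h2 : Odd (orderOf a) := h4 ▸ by decide
  have h5 : a ∈ C1[zz] := mem_CZ_of_mat (by rw [h1]; decide +kernel)
  have h6 := card_K tab h2 h1 ck5
  refine dsc_of (by decide) h4 h5 h6 ?_ (cent_sound tab h2 h5 h1 h3 cc5
    (tQ_all ca0_5 ca1_5 ca2_5 ca3_5 ca4_5)) (mt_inj (by rw [mt_pj, h1, mt5]))
    (cmm_iff.1 (by rw [mt5, g0, mt_al vB]; decide +kernel)) (cmm_iff.1 (by rw [mt5, s0, mt_al vB]; decide +kernel))
  rw [← Fx_nil (C1[a] ⊓ C1[zz]), level h2 h1 pc5 v0_5 c0_5, level h2 h1 pc5 v1_5 c1_5,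
    final h1 pc5 cf5, h6]
  norm_num

theorem dsc5 : Dsc (Q1 ⊓ C1[u0]) z0 g0 u0 2 60 := dsc5'.1

theorem ord5 : orderOf u0 = 5 := dsc5'.2

end Cfsg.Agent.CX
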